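import Cfsg.Agent.H961.RG.L03
import Cfsg.Agent.H383.RG.Count

/-!
# S5716, unbounded rank: few irreducible matrices have order with a small `p`-primitive part

* `Bp p d M o` : `o` has a divisor `k ≥ M` all prime divisors `r` of which satisfy `ord_r(p) = d`;
* `card_small_Bp` : in a cyclic group of order `N N'`, all prime divisors `r` of `N` with `ord_r(p) = d`, at most `N' M ^ 2`
  elements have order without `Bp`;
* `card_bad` : `16 e² #{g ∈ GL_e(F) irreducible, ¬ Bp p (e f) M (orderOf g)} ≤ |GL_e(F)|`.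
-/

set_option autoImplicit false

namespace Cfsg.Agent.H261.Ux

open Module Cfsg.Agent.H50.RG

/-- `o` has a divisor `k ≥ M` all prime divisors `r` of which satisfy `ord_r(p) = d` -/
def Bp (p d M o : ℕ) : Prop := ∃ k : ℕ, M ≤ k ∧ (∀ r : ℕ, r.Prime → r ∣ k → orderOf ((p : ℕ) : ZMod r) = d) ∧ k ∣ o

theorem card_small_Bp (C : Type*) [CommGroup C] [Finite C] [IsCyclic C] {p d M N N' : ℕ} (hC : N * N' = Nat.card C)
    (hN : ∀ r : ℕ, r.Prime → r ∣ N → orderOf ((p : ℕ) : ZMod r) = d) :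
    Nat.card {u : C // ¬ Bp p d M (orderOf u)} ≤ N' * M ^ 2 := by
  have hN'0 : 0 < N' := by
    rcases Nat.eq_zero_or_pos N' with h0 | h0
    · rw [h0, mul_zero] at hC
      exact absurd hC.symm Nat.card_pos.ne'
    · exact h0
  have key : ∀ u : C, ¬ Bp p d M (orderOf u) → orderOf (u ^ N') < M := by
    intro u hu
    by_contra hlt
    rw [not_lt] at hlt
    have hmN : orderOf (u ^ N') ∣ N := by
      apply orderOf_dvd_of_pow_eq_one
      rw [← pow_mul, mul_comm, hC]
      exact pow_card_eq_one'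
    exact hu ⟨orderOf (u ^ N'), hlt, fun r hr hrm => hN r hr (hrm.trans hmN), orderOf_pow_dvd N'⟩
  refine le_trans (Nat.card_le_card_of_injective (β := {u : C // orderOf (u ^ N') < M})
    (fun u => ⟨u.1, key u.1 u.2⟩) ?_) (H961.RG.card_small C N' M hN'0)
  intro u v huv
  simpa [Subtype.ext_iff] using huv

/-- few irreducible matrices have order with a small `p`-primitive part -/
theorem card_bad (F : Type) [Field F] [Finite F] {p f e M : ℕ} (hp : p.Prime) (hF : Nat.card F = p ^ f) (he : 3 ≤ e)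
    (h : 64 * (e * f) * M ^ 2 * e ≤ p ^ (e * f).totient) :
    16 * e ^ 2 * Nat.card {g : GL (Fin e) F // IrrM F g ∧ ¬ Bp p (e * f) M (orderOf g)} ≤ Nat.card (GL (Fin e) F) := by
  have hq : 2 ≤ Nat.card F := Finite.one_lt_card
  have hf : 1 ≤ f := by
    by_contra h0
    have h1 : f = 0 := by omega
    rw [hF, h1, pow_zero] at hq
    omega
  have hef : 3 ≤ e * f := by nlinarith
  obtain ⟨N, N', hNN, hNr, hN⟩ := H961.RG.exists_prim hef hp.two_le
  have hNM : 16 * e * M ^ 2 ≤ N := by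
    have h1 : (4 * (e * f)) * (16 * e * M ^ 2) ≤ (4 * (e * f)) * N := by
      calc (4 * (e * f)) * (16 * e * M ^ 2) = 64 * (e * f) * M ^ 2 * e := by ring
        _ ≤ _ := h
        _ ≤ _ := hN
    exact Nat.le_of_mul_le_mul_left h1 (by omega)
  have hqe : 1 < Nat.card F ^ e := Nat.one_lt_pow (by omega) (by omega)
  have hNN' : N * N' = Nat.card F ^ e - 1 := by
    rw [hNN, hF, ← pow_mul, mul_comm f e]
  have hpp : Fact p.Prime := ⟨hp⟩
  have hcp : CharP F p := by
    obtain ⟨p', hp'⟩ := CharP.exists F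
    have hpr : p'.Prime := CharP.char_is_prime F p'
    have : Fintype F := Fintype.ofFinite F
    have : Fact p'.Prime := ⟨hpr⟩
    obtain ⟨n, _, hn⟩ := FiniteField.card F p'
    rw [← Nat.card_eq_fintype_card, hF] at hn
    have h1 : p' ∣ p ^ f := by
      rw [hn]
      exact dvd_pow_self p' n.ne_zero
    have h2 := (Nat.prime_dvd_prime_iff_eq hpr hp).1 (hpr.dvd_of_dvd_pow h1)
    rwa [← h2]
  have : NeZero e := ⟨by omega⟩
  let K := FiniteField.Extension F p e
  have hd : finrank F K = e := FiniteField.finrank_extension F p e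
  have hcK : Nat.card Kˣ = Nat.card F ^ e - 1 := by
    have := Fintype.ofFinite K
    rw [Nat.card_units, ← hd, ← Module.natCard_eq_pow_finrank]
  have h1 := card_small_Bp Kˣ (M := M) (hNN'.trans hcK.symm) hNr
  have h2 := H383.RG.rg_L25 F K e (by omega) hd (fun k => ¬ Bp p (e * f) M k)
  have h3 : Nat.card {u : Kˣ // Algebra.adjoin F {(u : K)} = ⊤ ∧ ¬ Bp p (e * f) M (orderOf u)} ≤ N' * M ^ 2 := by
    refine le_trans (Nat.card_le_card_of_injective (fun u => ⟨u.1, u.2.2⟩) ?_) h1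
    intro u v huv
    simpa [Subtype.ext_iff] using huv
  refine Nat.le_of_mul_le_mul_right (c := Nat.card F ^ e - 1) ?_ (by omega)
  calc 16 * e ^ 2 * Nat.card {g : GL (Fin e) F // IrrM F g ∧ ¬ Bp p (e * f) M (orderOf g)} * (Nat.card F ^ e - 1)
      = 16 * e * (e * Nat.card {g : GL (Fin e) F // IrrM F g ∧ ¬ Bp p (e * f) M (orderOf g)} *
        (Nat.card F ^ e - 1)) := by ring
    _ = 16 * e * (Nat.card (GL (Fin e) F) *
        Nat.card {u : Kˣ // Algebra.adjoin F {(u : K)} = ⊤ ∧ ¬ Bp p (e * f) M (orderOf u)}) := by rw [h2]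
    _ ≤ 16 * e * (Nat.card (GL (Fin e) F) * (N' * M ^ 2)) := Nat.mul_le_mul_left _ (Nat.mul_le_mul_left _ h3)
    _ = Nat.card (GL (Fin e) F) * ((16 * e * M ^ 2) * N') := by ring
    _ ≤ Nat.card (GL (Fin e) F) * (N * N') := Nat.mul_le_mul_left _ (Nat.mul_le_mul_right _ hNM)
    _ = _ := by rw [hNN']

end Cfsg.Agent.H261.Ux
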