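import Cfsg.Agent.H127.RG.L13U
import Cfsg.Agent.H141.Ux.Defs
import Cfsg.Agent.H261.Ux.Prim

/-!
# S5716, unbounded rank: good subspaces give blocks (linear case)

`stl_of` : `Gd (Prp F V) e 2 y A` and a large `p`-primitive part of the order of `y` on `A` give `StL` and `Pp`.
-/

set_option autoImplicit false

namespace Cfsg.Agent.H261.Ux

open Module Cfsg.Agent.H847.Bs Cfsg.Agent.H50.RG Cfsg.Agent.H127.RG Cfsg.Agent.H94.RG.U Cfsg.Agent.H141.Ux

/-- `ord_r(p) = e f` implies `ord_r(p ^ f) = e` -/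
theorem ord_pow {p f e r : ℕ} (hf : 1 ≤ f) (h : orderOf ((p : ℕ) : ZMod r) = e * f) :
    orderOf ((p ^ f : ℕ) : ZMod r) = e := by
  rw [Nat.cast_pow, orderOf_pow' _ (by omega), h]
  have h1 : Nat.gcd (e * f) f = f := Nat.gcd_eq_right (dvd_mul_left f e)
  rw [h1, Nat.mul_div_cancel _ (by omega)]

theorem ringChar_eq {F : Type*} [Field F] [Finite F] {p f : ℕ} (hp : p.Prime) (hF : Nat.card F = p ^ f) :
    ringChar F = p := by
  have : Fintype F := Fintype.ofFinite F
  have : Fact (ringChar F).Prime := ⟨CharP.char_is_prime F _⟩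
  obtain ⟨n, _, hn⟩ := FiniteField.card F (ringChar F)
  rw [← Nat.card_eq_fintype_card, hF] at hn
  have h1 : ringChar F ∣ p ^ f := by
    rw [hn]
    exact dvd_pow_self _ n.ne_zero
  exact (Nat.prime_dvd_prime_iff_eq (Fact.out) hp).1 ((Fact.out : (ringChar F).Prime).dvd_of_dvd_pow h1)

theorem f_pos {F : Type*} [Field F] [Finite F] {p f : ℕ} (hF : Nat.card F = p ^ f) : 1 ≤ f := by
  have hq : 2 ≤ Nat.card F := Finite.one_lt_card
  by_contra h0
  have h1 : f = 0 := by omega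
  rw [hF, h1, pow_zero] at hq
  omega

section

variable {F V : Type} [Field F] [AddCommGroup V] [Module F V] [Finite F] [Module.Finite F V]

/-- the `m`-part `z` of `y` -/
theorem exists_gen' {M m : ℕ} {y : V ≃ₗ[F] V} {A : Submodule F V} (hM : 2 ≤ M) (hm : M ≤ m)
    (hk : ∀ k : ℕ, (∀ a ∈ A, (y ^ k) a = a) → m ∣ k) :
    ∃ z ∈ Subgroup.zpowers y, M ≤ orderOf z ∧ (∀ r : ℕ, r.Prime → r ∣ orderOf z → r ∣ m) ∧ ¬ ∀ a ∈ A, z a = a := by
  have hfG := finite_gl F V
  have hN : orderOf y ≠ 0 := (orderOf_pos y).ne'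
  have hmN : m ∣ orderOf y := hk _ (fun a _ => by rw [pow_orderOf_eq_one]; rfl)
  obtain ⟨a, b, hab, hcop, hpa⟩ := exists_split m _ hN
  have ha0 : a ≠ 0 := fun h0 => hN (by rw [hab, h0, zero_mul])
  have hb0 : b ≠ 0 := fun h0 => hN (by rw [hab, h0, mul_zero])
  have hord : orderOf (y ^ b) = a := by
    rw [orderOf_pow_of_dvd hb0 (hab ▸ dvd_mul_left b a), hab, Nat.mul_div_cancel _ (Nat.pos_of_ne_zero hb0)]
  have hma : m ∣ a := by
    rw [hab] at hmN
    exact hcop.dvd_of_dvd_mul_right hmN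
  refine ⟨y ^ b, ⟨b, by simp⟩, ?_, ?_, ?_⟩
  · rw [hord]
    exact hm.trans (Nat.le_of_dvd (Nat.pos_of_ne_zero ha0) hma)
  · intro r hr h1
    rw [hord] at h1
    exact hpa r hr h1
  · intro h1
    have h2 := hk b h1
    have h3 : m = 1 := Nat.Coprime.eq_one_of_dvd hcop h2
    omega

theorem stl_of {e M m p f : ℕ} (he : 2 ≤ e) (hp : p.Prime) (hF : Nat.card F = p ^ f)
    (hdim : ¬ e ∣ finrank F V) {y : V ≃ₗ[F] V} {A : Submodule F V} (hgd : Gd (Prp F V) e M y A)
    (hm : 2 * e + 2 ≤ m) (hmr : ∀ r : ℕ, r.Prime → r ∣ m → orderOf ((p : ℕ) : ZMod r) = e * f)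
    (hmk : ∀ k : ℕ, (∀ a ∈ A, (y ^ k) a = a) → m ∣ k) :
    ∃ C z, StL e y A C z ∧ Pp F e (orderOf z) := by
  have hG := finite_gl F V
  have hf := f_pos hF
  obtain ⟨z, hz, hcard, hpr', hnA⟩ := exists_gen' (M := 2 * e + 2) (by omega) hm hmk
  have hzy : Subgroup.zpowers z ≤ Subgroup.zpowers y := by
    rw [Subgroup.zpowers_le]
    exact hz
  have hpp : ∀ r : ℕ, r.Prime → r ∣ orderOf z → orderOf ((p : ℕ) : ZMod r) = e * f :=
    fun r hr hrz => hmr r hr (hpr' r hr hrz)
  have hpr0 : ∀ r : ℕ, r.Prime → r ∣ orderOf z → orderOf ((Nat.card F : ℕ) : ZMod r) = e := by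
    intro r hr hrz
    rw [hF]
    exact ord_pow hf (hpp r hr hrz)
  have hpr : ∀ w ∈ Subgroup.zpowers z, ∀ r : ℕ, r.Prime → r ∣ orderOf w →
      orderOf ((Nat.card F : ℕ) : ZMod r) = e := by
    intro w hw r hr hrw
    obtain ⟨j, rfl⟩ := hw
    exact hpr0 r hr (hrw.trans (orderOf_dvd_of_mem_zpowers ⟨j, rfl⟩))
  have hzA : Inv z A := Inv.of_zpowers hgd.irr.inv hz
  -- `z` is trivial on `V / A`
  have htr : z ∈ TrQ A := by
    by_contra hn
    obtain ⟨B, hB1, hB2, hB3, hB4⟩ := exists_section he hz (hpr z (Subgroup.mem_zpowers z)) hgd.irr.inv hn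
    have h1 : e ∣ finrank F B := by
      have h2 : finrank F A ≤ finrank F B := Submodule.finrank_mono hB2.le
      have h3 : finrank F B = finrank F B - finrank F A + e := by
        have := hgd.dim
        omega
      rw [h3]
      exact dvd_add hB4 dvd_rfl
    by_cases hBV : finrank F B < finrank F V
    · exact hgd.no B hBV hB1 hB2 hB3 h1
    · have h2 := Submodule.finrank_le B
      have h3 : finrank F B = finrank F V := by omega
      exact hdim (h3 ▸ h1)
  -- fixed points in `A`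
  have hfix : ∀ w ∈ Subgroup.zpowers z, (¬ ∀ a ∈ A, w a = a) → ∀ a ∈ A, w a = a → a = 0 :=
    fun w hw hn => fix_bot (hzy hw) hgd.irr hn
  set C : Submodule F V := LinearMap.ker ((z : V →ₗ[F] V) - LinearMap.id) with hCdef
  have hCmem : ∀ v, v ∈ C ↔ z v = v := by
    intro v
    rw [hCdef, LinearMap.mem_ker]
    exact sub_eq_zero
  have hsurj : ∀ a ∈ A, ∃ b ∈ A, z b - b = a := by
    intro a ha
    let f : A →ₗ[F] A := ((z : V →ₗ[F] V) - LinearMap.id).restrict
      (fun v hv => A.sub_mem (hzA v hv) hv)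
    have hf : ∀ v : A, ((f v : A) : V) = z v - v := fun v => rfl
    have hinj : Function.Injective f := by
      rw [← LinearMap.ker_eq_bot, LinearMap.ker_eq_bot']
      intro v hv
      have h1 : z v - v = 0 := by rw [← hf, hv]; rfl
      exact Subtype.ext (hfix z (Subgroup.mem_zpowers z) hnA v v.2 (sub_eq_zero.1 h1))
    obtain ⟨b, hb⟩ := (LinearMap.injective_iff_surjective.1 hinj) ⟨a, ha⟩
    exact ⟨b, b.2, by rw [← hf, hb]⟩
  have hcompl : IsCompl A C := by
    constructor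
    · rw [Submodule.disjoint_def]
      intro a ha hc
      exact hfix z (Subgroup.mem_zpowers z) hnA a ha ((hCmem a).1 hc)
    · rw [codisjoint_iff, eq_top_iff]
      intro x _
      obtain ⟨b, hb, hb2⟩ := hsurj _ (htr x)
      rw [Submodule.mem_sup]
      refine ⟨b, hb, x - b, (hCmem _).2 ?_, by abel⟩
      rw [map_sub]
      have h1 : z x = z b - b + x := by rw [hb2]; abel
      rw [h1]
      abel
  have hCz : ∀ w ∈ Subgroup.zpowers z, ∀ c ∈ C, w c = c := by
    intro w hw c hc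
    obtain ⟨j, rfl⟩ := (isOfFinOrder_of_finite z).mem_powers_iff_mem_zpowers.2 hw
    have hc' := (hCmem c).1 hc
    have : ∀ j : ℕ, (z ^ j) c = c := by
      intro j
      induction j with
      | zero => rfl
      | succ j ih =>
        rw [pow_succ]
        show (z ^ j) (z c) = c
        rw [hc', ih]
    exact this j
  have hne : ∀ w ∈ Subgroup.zpowers z, w ≠ 1 → ¬ ∀ a ∈ A, w a = a := by
    intro w hw hw1 h
    apply hw1
    ext x
    obtain ⟨a, ha, c, hc, rfl⟩ := Submodule.mem_sup.1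
      ((codisjoint_iff.1 hcompl.codisjoint) ▸ (Submodule.mem_top : x ∈ (⊤ : Submodule F V)))
    rw [map_add, h a ha, hCz w hw c hc]
    rfl
  have hCinv : Inv y C := by
    intro c hc
    rw [hCmem] at hc ⊢
    rw [comm_of_zpowers hz, hc]
  have hirr : ∀ W ≤ A, Inv z W → W = ⊥ ∨ W = A := by
    intro W hWA hW
    have hz1 : orderOf z ≠ 1 := by omega
    have hr := Nat.minFac_prime hz1
    obtain ⟨j, hj1, hj2⟩ := exists_pow_prime hr (Nat.minFac_dvd (orderOf z))
    have hwj : z ^ j ∈ Subgroup.zpowers z := ⟨j, by simp⟩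
    have h1 : e ∣ finrank F W := by
      have h2 := dvd_sub_of he hr (hpr0 _ hr (Nat.minFac_dvd _)) hj1 (bot_le : ⊥ ≤ W)
        (fun v hv => by rw [Submodule.mem_bot] at hv ⊢; rw [hv, map_zero]) (Inv.pow hW j)
        (fun b hb hwb => by
          rw [Submodule.mem_bot]
          exact hfix _ hwj (hne _ hwj hj2) b (hWA hb) hwb)
      rwa [finrank_bot, Nat.sub_zero] at h2
    rcases Nat.eq_zero_or_pos (finrank F W) with h0 | h0
    · left
      exact Submodule.finrank_eq_zero.1 h0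
    · right
      apply Submodule.eq_of_le_of_finrank_le hWA
      rw [hgd.dim]
      exact Nat.le_of_dvd h0 h1
  have hdv : orderOf z ∣ Nat.card F ^ e - 1 := by
    rw [← Nat.card_zpowers]
    exact card_dvd_of_free hgd.dim (fun w hw => Inv.of_zpowers hgd.irr.inv (hzy hw))
      (fun w hw hw1 => hfix w hw (hne w hw hw1))
  refine ⟨C, z, ⟨hz, hcompl, hgd.dim, hgd.irr.inv, hCinv, hCz z (Subgroup.mem_zpowers z), hirr,
    hfix z (Subgroup.mem_zpowers z) hnA, ⟨by omega, hpr0⟩⟩, by omega, hdv, ?_⟩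
  intro r hr hrz f' hf'
  rw [ringChar_eq hp hF] at hf' ⊢
  have h1 : f' = f := by
    rw [hF] at hf'
    exact (Nat.pow_right_injective hp.two_le hf').symm
  rw [h1]
  exact hpp r hr hrz

end

end Cfsg.Agent.H261.Ux
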